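import Mathlib

/-!
# Solvable permutation groups of prime power degree with a regular cycle

Such a group acts affinely on the residues modulo `p` of the cycle coordinate.
-/

set_option autoImplicit false
set_option linter.style.haveILetI false

namespace CfsgLib.AltPair

open MulAction
open scoped commutatorElement

universe u

/-- An endomorphism of `p`-power order of a small space has vanishing norm. -/
theorem geom_vanish {p : ℕ} [hp : Fact p.Prime] {V : Type u} [AddCommGroup V] [Module (ZMod p) V]
    [FiniteDimensional (ZMod p) V] (f : Module.End (ZMod p) V) {e k : ℕ} (hf : f ^ p ^ e = 1)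
    (hk : Module.finrank (ZMod p) V + 1 ≤ p ^ k) : ∑ i ∈ Finset.range (p ^ k), f ^ i = 0 := by
  open Polynomial in
  have hchar : ∀ i : ℕ, ((X : (ZMod p)[X]) - 1) ^ p ^ i = X ^ p ^ i - 1 := fun i => by
    rw [sub_pow_char_pow, one_pow]
  open Polynomial in
  have h1 : minpoly (ZMod p) f ∣ ((X : (ZMod p)[X]) - 1) ^ p ^ e := by
    rw [hchar]
    exact minpoly.dvd _ _ (by simp [hf])
  open Polynomial in
  obtain ⟨i, -, hi⟩ := (dvd_prime_pow (show Prime ((X : (ZMod p)[X]) - 1) by
    rw [← C_1]; exact prime_X_sub_C 1) _).1 h1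
  open Polynomial in
  have hi' : i + 1 ≤ p ^ k := by
    have := Polynomial.natDegree_le_of_dvd (Associated.dvd hi)
      (pow_ne_zero _ (by rw [← C_1]; exact X_sub_C_ne_zero 1))
    have hdeg : i ≤ (minpoly (ZMod p) f).natDegree := by
      have h := Polynomial.natDegree_le_of_dvd (Associated.dvd hi.symm) (minpoly.ne_zero (Algebra.IsIntegral.isIntegral f))
      rwa [natDegree_pow, ← C_1, natDegree_X_sub_C, mul_one] at h
    have hle : (minpoly (ZMod p) f).natDegree ≤ Module.finrank (ZMod p) V := by
      have h2 := LinearMap.minpoly_dvd_charpoly f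
      have h3 := Polynomial.natDegree_le_of_dvd h2 (LinearMap.charpoly_monic f).ne_zero
      rwa [LinearMap.charpoly_natDegree] at h3
    omega
  open Polynomial in
  have h2 : (∑ j ∈ Finset.range (p ^ k), (X : (ZMod p)[X]) ^ j) = (X - 1) ^ (p ^ k - 1) := by
    refine mul_right_cancel₀ (show (X : (ZMod p)[X]) - 1 ≠ 0 by rw [← C_1]; exact X_sub_C_ne_zero 1) ?_
    rw [geom_sum_mul, ← pow_succ, Nat.sub_add_cancel (Nat.one_le_pow _ _ hp.out.pos), hchar]
  open Polynomial in
  have h3 : aeval f (((X : (ZMod p)[X]) - 1) ^ (p ^ k - 1)) = 0 := by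
    rw [← minpoly.dvd_iff]
    exact hi.dvd.trans (pow_dvd_pow _ (by omega))
  rw [← h2] at h3
  simpa using h3

variable {p : ℕ} [hp : Fact p.Prime]

/-- A nontrivial solvable group has a nontrivial normal abelian subgroup of prime exponent. -/
theorem exists_normal_elementary {H : Type u} [Group H] [Finite H] [Nontrivial H]
    (hs : Group.IsSolvable H) :
    ∃ (q : ℕ) (A : Subgroup H), q.Prime ∧ A.Normal ∧ A ≠ ⊥ ∧ (∀ a ∈ A, a ^ q = 1) ∧
      ∀ a ∈ A, ∀ b ∈ A, a * b = b * a := by
  obtain ⟨n, hn⟩ := hs.1
  have hex : ∃ n, derivedSeries H n = ⊥ := ⟨n, hn⟩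
  obtain ⟨m, hm, hm'⟩ : ∃ m, derivedSeries H (m + 1) = ⊥ ∧ derivedSeries H m ≠ ⊥ := by
    classical
    have h0 : Nat.find hex ≠ 0 := fun h => by
      have h1 := Nat.find_spec hex
      rw [h, derivedSeries_zero] at h1
      exact top_ne_bot h1
    refine ⟨Nat.find hex - 1, ?_, Nat.find_min hex (by omega)⟩
    rw [Nat.sub_add_cancel (by omega)]; exact Nat.find_spec hex
  set D := derivedSeries H m with hD
  have hcomm : ∀ a ∈ D, ∀ b ∈ D, a * b = b * a := fun a ha b hb => by
    have h1 : ⁅a, b⁆ ∈ derivedSeries H (m + 1) := by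
      rw [derivedSeries_succ]; exact Subgroup.commutator_mem_commutator ha hb
    rw [hm, Subgroup.mem_bot] at h1
    exact commutatorElement_eq_one_iff_mul_comm.1 h1
  haveI : Nontrivial D := (Subgroup.nontrivial_iff_ne_bot D).2 hm'
  obtain ⟨q, hq, hqd⟩ := Nat.exists_prime_and_dvd (Finite.one_lt_card (α := D)).ne'
  haveI := Fact.mk hq
  obtain ⟨z, hz⟩ := exists_prime_orderOf_dvd_card' q hqd
  let A : Subgroup H :=
    { carrier := {a | a ∈ D ∧ a ^ q = 1}
      one_mem' := ⟨one_mem _, one_pow _⟩
      mul_mem' := fun {a b} ha hb => ⟨mul_mem ha.1 hb.1, by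
        rw [(show Commute a b from hcomm a ha.1 b hb.1).mul_pow, ha.2, hb.2, one_mul]⟩
      inv_mem' := fun {a} ha => ⟨inv_mem ha.1, by rw [inv_pow, ha.2, inv_one]⟩ }
  haveI : D.Normal := derivedSeries_normal H m
  refine ⟨q, A, hq, ⟨fun a ha g => ⟨Subgroup.Normal.conj_mem inferInstance a ha.1 g, by
    rw [conj_pow, ha.2, mul_one, mul_inv_cancel]⟩⟩, ?_, fun a ha => ha.2,
    fun a ha b hb => hcomm a ha.1 b hb.1⟩
  intro h
  have hzA : (z : H) ∈ A := ⟨z.2, by rw [← hz, ← Subgroup.coe_pow, pow_orderOf_eq_one, Subgroup.coe_one]⟩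
  rw [h, Subgroup.mem_bot] at hzA
  have : z = 1 := Subtype.ext hzA
  rw [this, orderOf_one] at hz
  exact hq.one_lt.ne hz

/-- Solvable groups of degree `p ^ j` containing a full cycle act affinely on residues modulo `p`. -/
theorem affine_mod (hp2 : p ≠ 2) : ∀ (j : ℕ) {X : Type u} [Finite X], Nat.card X = p ^ (j + 1) →
    ∀ (G : Subgroup (Equiv.Perm X)), Group.IsSolvable G → ∀ w ∈ G, ∀ x₀ : X,
      (∀ x : X, ∃ k : ℕ, (w ^ k) x₀ = x) →
      ∃ τ : X → ZMod p, (∀ x, τ (w x) = τ x + 1) ∧
        ∀ g ∈ G, ∃ c d : ZMod p, ∀ x, τ (g x) = c * τ x + d := by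
  intro j
  induction j using Nat.strong_induction_on with
  | _ j ih =>
    intro X _ hX G hG w hw x₀ htr
    classical
    have hX1 : 1 < Nat.card X := hX ▸ Nat.one_lt_pow (Nat.succ_ne_zero _) hp.out.one_lt
    -- the cycle is regular
    have hfix : ∀ k : ℕ, (w ^ k) x₀ = x₀ → w ^ k = 1 := fun k hk => by
      ext x
      obtain ⟨i, rfl⟩ := htr x
      rw [← Equiv.Perm.mul_apply, ← pow_add, add_comm, pow_add, Equiv.Perm.mul_apply, hk]
      rfl
    have hord : orderOf w = p ^ (j + 1) := by
      rw [← hX]
      refine Eq.trans (Nat.card_fin _).symm (Nat.card_eq_of_bijective (fun i : Fin (orderOf w) => (w ^ (i : ℕ)) x₀) ⟨?_, fun x => ?_⟩)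
      · intro a b hab
        have key : ∀ a b : Fin (orderOf w), (a : ℕ) ≤ b → (w ^ (a : ℕ)) x₀ = (w ^ (b : ℕ)) x₀ → a = b := by
          intro a b hle h
          obtain ⟨d, hd⟩ := Nat.exists_eq_add_of_le hle
          rw [hd, pow_add, Equiv.Perm.mul_apply] at h
          have hd1 := hfix d ((w ^ (a : ℕ)).injective h).symm
          have hlt : d < orderOf w := by omega
          rcases Nat.eq_zero_or_pos d with h0 | h0
          · exact Fin.ext (by omega)
          · exact absurd hd1 (pow_ne_one_of_lt_orderOf h0.ne' hlt)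
        rcases le_total (a : ℕ) b with h | h
        · exact key a b h hab
        · exact (key b a h hab.symm).symm
      · obtain ⟨k, rfl⟩ := htr x
        exact ⟨⟨k % orderOf w, Nat.mod_lt _ (orderOf_pos w)⟩, by simp [pow_mod_orderOf]⟩
    haveI : Nontrivial G := ⟨⟨w, hw⟩, 1, fun h => by
      have h1 : w = 1 := congrArg Subtype.val h
      rw [h1, orderOf_one] at hord
      rw [← hX] at hord; omega⟩
    obtain ⟨q, A, hq, hAn, hA1, hAq, hAc⟩ := exists_normal_elementary hG
    haveI := Fact.mk hq
    -- orbits of `A`
    let r : Setoid X := MulAction.orbitRel A X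
    have hmap : ∀ g ∈ G, ∀ x y : X, r x y → r (g x) (g y) := by
      intro g hg x y hxy
      obtain ⟨a, ha⟩ := hxy
      refine ⟨⟨⟨g, hg⟩ * (a : G) * ⟨g, hg⟩⁻¹, hAn.conj_mem _ a.2 _⟩, ?_⟩
      show (g * ((a : G) : Equiv.Perm X) * g⁻¹) (g y) = g x
      rw [Equiv.Perm.mul_apply, Equiv.Perm.inv_def, Equiv.symm_apply_apply, Equiv.Perm.mul_apply]
      exact congrArg g ha
    let act : G →* Equiv.Perm (Quotient r) :=
      { toFun := fun g =>
          { toFun := Quotient.map (g : Equiv.Perm X) (hmap _ g.2)
            invFun := Quotient.map ((g⁻¹ : G) : Equiv.Perm X) (hmap _ (g⁻¹).2)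
            left_inv := fun z => Quotient.inductionOn z fun x => by
              simp [Quotient.map_mk]
            right_inv := fun z => Quotient.inductionOn z fun x => by
              simp [Quotient.map_mk] }
        map_one' := Equiv.ext fun z => Quotient.inductionOn z fun x => rfl
        map_mul' := fun g h => Equiv.ext fun z => Quotient.inductionOn z fun x => rfl }
    have hact : ∀ (g : G) (x : X), act g (Quotient.mk r x) = Quotient.mk r ((g : Equiv.Perm X) x) :=
      fun g x => rfl
    -- all classes have the same size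
    have hsize : ∀ x : X, Nat.card {y // r y x} = Nat.card {y // r y x₀} := by
      intro x
      obtain ⟨k, rfl⟩ := htr x
      have hk := pow_mem hw k
      refine (Nat.card_congr (Equiv.subtypeEquiv (w ^ k) fun y => ?_)).symm
      refine ⟨fun h => hmap _ hk _ _ h, fun h => ?_⟩
      have := hmap _ (inv_mem hk) _ _ h
      simpa using this
    have hcard : Nat.card (Quotient r) * Nat.card {y // r y x₀} = p ^ (j + 1) := by
      haveI := Fintype.ofFinite X
      haveI := Fintype.ofFinite (Quotient r)
      rw [← hX]
      refine Eq.symm ((Nat.card_congr (Equiv.sigmaFiberEquiv (Quotient.mk r)).symm).trans ?_)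
      rw [Nat.card_sigma]
      rw [Finset.sum_congr rfl fun z _ => ?_, Finset.sum_const, Finset.card_univ, ← Nat.card_eq_fintype_card, smul_eq_mul]
      induction z using Quotient.inductionOn with
      | h x => rw [← hsize x]; exact Nat.card_congr (Equiv.subtypeEquivRight fun y => ⟨Quotient.exact, Quotient.sound⟩)
    obtain ⟨i, hi, hQ⟩ := (Nat.dvd_prime_pow hp.out).1 (Dvd.intro _ hcard)
    rcases Nat.eq_zero_or_pos i with rfl | hi0
    · -- `A` is regular
      rw [pow_zero] at hQ
      have htrA : ∀ x : X, ∃ a : A, ((a : G) : Equiv.Perm X) x₀ = x := fun x => by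
        haveI : Subsingleton (Quotient r) := (Nat.card_eq_one_iff_unique.1 hQ).1
        exact Quotient.exact (s := r) (Subsingleton.elim (Quotient.mk r x) (Quotient.mk r x₀))
      have hreg : Function.Bijective fun a : A => ((a : G) : Equiv.Perm X) x₀ := by
        refine ⟨fun a b hab => ?_, htrA⟩
        refine Subtype.ext (Subtype.ext (Equiv.ext fun x => ?_))
        obtain ⟨c, rfl⟩ := htrA x
        have h1 := congrArg (fun g : G => (g : Equiv.Perm X) x₀) (hAc _ a.2 _ c.2)
        have h2 := congrArg (fun g : G => (g : Equiv.Perm X) x₀) (hAc _ b.2 _ c.2)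
        simp only [Subgroup.coe_mul, Equiv.Perm.mul_apply] at h1 h2
        rw [h1, h2]
        exact congrArg _ hab
      have hAcard : Nat.card A = p ^ (j + 1) := (Nat.card_eq_of_bijective _ hreg).trans hX
      have hqp : q = p := by
        obtain ⟨a, ha⟩ := exists_prime_orderOf_dvd_card' (G := A) p (hAcard ▸ dvd_pow_self p (Nat.succ_ne_zero _))
        have h1 : orderOf a ∣ q := orderOf_dvd_of_pow_eq_one (Subtype.ext (hAq _ a.2))
        rw [ha] at h1
        exact ((Nat.prime_dvd_prime_iff_eq hp.out hq).1 h1).symm
      subst hqp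
      haveI := hAn
      let W : G := ⟨w, hw⟩
      rcases Nat.eq_zero_or_pos j with rfl | hj0
      · -- degree `p`
        rw [zero_add, pow_one] at hAcard hord
        haveI : IsCyclic A := isCyclic_of_prime_card hAcard
        obtain ⟨a, ha⟩ := IsCyclic.exists_generator (α := A)
        obtain ⟨e, he⟩ : ∃ e : ℕ, W * (a : G) * W⁻¹ = (a : G) ^ e := by
          obtain ⟨e, he⟩ := mem_powers_iff_mem_zpowers.2 (ha ⟨_, hAn.conj_mem _ a.2 W⟩)
          exact ⟨e, (congrArg Subtype.val he).symm.trans (by simp) |>.trans rfl⟩
        have hpow : ∀ k : ℕ, W ^ k * (a : G) * (W ^ k)⁻¹ = (a : G) ^ e ^ k := by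
          intro k
          induction k with
          | zero => simp
          | succ k ih =>
            calc W ^ (k + 1) * (a : G) * (W ^ (k + 1))⁻¹ = W * (W ^ k * (a : G) * (W ^ k)⁻¹) * W⁻¹ := by
                  rw [pow_succ']; group
              _ = (W * (a : G) * W⁻¹) ^ e ^ k := by rw [ih, conj_pow]
              _ = _ := by rw [he, ← pow_mul, pow_succ']
        have hWp : W ^ q = 1 := Subtype.ext (by
          show w ^ q = 1
          rw [← hord, pow_orderOf_eq_one])
        have hea : (a : G) ^ e = (a : G) := by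
          have h1 := hpow q
          rw [hWp, one_mul, inv_one, mul_one] at h1
          have ha1 : orderOf (a : G) = q := by
            rw [Subgroup.orderOf_coe, orderOf_eq_card_of_forall_mem_zpowers ha, hAcard]
          have h2 : ((e : ZMod q)) ^ q = 1 := by
            have := (pow_eq_pow_iff_modEq (x := (a : G)) (n := 1) (m := e ^ q)).1 (by rw [pow_one, ← h1])
            rw [ha1, ← ZMod.natCast_eq_natCast_iff, Nat.cast_one, Nat.cast_pow] at this
            exact this.symm
          rw [ZMod.pow_card, ← Nat.cast_one, ZMod.natCast_eq_natCast_iff] at h2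
          conv_rhs => rw [← pow_one (a : G)]
          rwa [pow_eq_pow_iff_modEq, ha1]
        have hWA : W ∈ A := by
          obtain ⟨b, hb⟩ := htrA (w x₀)
          have hWb : W = (b : G) := by
            refine Subtype.ext (Equiv.ext fun x => ?_)
            obtain ⟨c, rfl⟩ := htrA x
            obtain ⟨l, hl⟩ := mem_powers_iff_mem_zpowers.2 (ha c)
            have hc : Commute W (c : G) := by
              rw [← hl, SubmonoidClass.coe_pow]
              exact Commute.pow_right (mul_inv_eq_iff_eq_mul.1 (he.trans hea)) _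
            have h1 := congrArg (fun g : G => (g : Equiv.Perm X) x₀) hc.eq
            have h2 := congrArg (fun g : G => (g : Equiv.Perm X) x₀) (hAc _ b.2 _ c.2)
            simp only [Subgroup.coe_mul, Equiv.Perm.mul_apply] at h1 h2
            rw [h1, h2, hb]
          rw [hWb]; exact b.2
        have hgen : ∀ g : G, ∃ c : ℕ, g * W * g⁻¹ = W ^ c := by
          intro g
          have hW1 : (⟨W, hWA⟩ : A) ≠ 1 := fun h => by
            have : w = 1 := congrArg (fun t : A => ((t : G) : Equiv.Perm X)) h
            rw [this, orderOf_one] at hord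
            exact hp.out.one_lt.ne hord
          obtain ⟨c, hc⟩ := mem_powers_iff_mem_zpowers.2
            (mem_zpowers_of_prime_card hAcard hW1 (g' := (⟨_, hAn.conj_mem _ hWA g⟩ : A)))
          exact ⟨c, (congrArg Subtype.val hc).symm⟩
        choose ν hν using htr
        have hνx : ∀ (x : X) (k : ℕ), (w ^ k) x₀ = x → ((ν x : ℕ) : ZMod q) = k := by
          intro x k hk
          rw [ZMod.natCast_eq_natCast_iff, ← hord, ← pow_eq_pow_iff_modEq]
          ext y
          obtain ⟨l, rfl⟩ := (⟨ν y, hν y⟩ : ∃ l, (w ^ l) x₀ = y)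
          rw [← Equiv.Perm.mul_apply, ← pow_add, add_comm, pow_add, Equiv.Perm.mul_apply, hν x,
            ← Equiv.Perm.mul_apply (f := w ^ k), ← pow_add, add_comm, pow_add, Equiv.Perm.mul_apply, hk]
        refine ⟨fun x => (ν x : ZMod q), fun x => ?_, fun g hg => ?_⟩
        · have := hνx (w x) (ν x + 1) (by rw [pow_succ', Equiv.Perm.mul_apply, hν])
          rw [Nat.cast_add, Nat.cast_one] at this
          exact this
        · obtain ⟨c, hc⟩ := hgen ⟨g, hg⟩
          refine ⟨c, ν (g x₀), fun x => ?_⟩
          have hc' : g * w * g⁻¹ = w ^ c := congrArg Subtype.val hc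
          have := hνx (g x) (c * ν x + ν (g x₀)) (by
            rw [pow_add, Equiv.Perm.mul_apply, hν, pow_mul, ← hc', conj_pow, Equiv.Perm.mul_apply,
              Equiv.Perm.inv_def, Equiv.symm_apply_apply, Equiv.Perm.mul_apply, hν])
          rw [Nat.cast_add, Nat.cast_mul] at this
          exact this
      · -- degree `p ^ (j + 1)`: the cycle is too long
        exfalso
        letI : CommGroup A :=
          { (inferInstance : Group A) with mul_comm := fun a b => Subtype.ext (hAc _ a.2 _ b.2) }
        haveI : Module (ZMod q) (Additive A) :=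
          AddCommGroup.zmodModule fun a => Additive.toMul.injective (Subtype.ext (by
            show (((Additive.toMul a : A) ^ q : A) : G) = 1
            rw [SubmonoidClass.coe_pow]
            exact hAq _ (Additive.toMul a).2))
        let φ : A →* A := ((MulAut.conjNormal W : MulAut A) : A →* A)
        let f : Module.End (ZMod q) (Additive A) := (MonoidHom.toAdditive φ).toZModLinearMap q
        have hfk : ∀ (k : ℕ) (a : A), ((Additive.toMul ((f ^ k) (Additive.ofMul a)) : A) : G)
            = W ^ k * (a : G) * (W ^ k)⁻¹ := by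
          intro k
          induction k with
          | zero => intro a; simp
          | succ k ih =>
            intro a
            rw [pow_succ', Module.End.mul_apply]
            show ((φ (Additive.toMul ((f ^ k) (Additive.ofMul a)))) : G) = _
            show W * ((Additive.toMul ((f ^ k) (Additive.ofMul a)) : A) : G) * W⁻¹ = _
            rw [ih a, pow_succ']
            group
        have hf : f ^ q ^ (j + 1) = 1 := by
          refine LinearMap.ext fun v => Additive.toMul.injective (Subtype.ext ?_)
          have hWo : W ^ q ^ (j + 1) = 1 := Subtype.ext (by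
            show w ^ _ = 1
            rw [← hord, pow_orderOf_eq_one])
          have := hfk (q ^ (j + 1)) (Additive.toMul v)
          rw [hWo] at this
          simpa using this
        have hrank : Module.finrank (ZMod q) (Additive A) = j + 1 := by
          have h1 : Nat.card (Additive A) = Nat.card (ZMod q) ^ Module.finrank (ZMod q) (Additive A) :=
            Module.natCard_eq_pow_finrank
          rw [Nat.card_zmod, show Nat.card (Additive A) = q ^ (j + 1) from hAcard] at h1
          exact (Nat.pow_right_injective hp.out.two_le h1).symm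
        have hjq : ∀ j : ℕ, 1 ≤ j → j + 1 + 1 ≤ q ^ j := by
          intro j hj
          have h3 : 3 ≤ q := by
            have := hp.out.two_le; omega
          induction j, hj using Nat.le_induction with
          | base => rw [pow_one]; omega
          | succ n hn ih2 => rw [pow_succ]; nlinarith
        have hsum := geom_vanish f hf (k := j) (by rw [hrank]; exact hjq j hj0)
        obtain ⟨v, hv⟩ := htrA (w x₀)
        have hit : ∀ k : ℕ, (w ^ k) x₀ =
            (((Additive.toMul (∑ i ∈ Finset.range k, (f ^ i) (Additive.ofMul v)) : A) : G) : Equiv.Perm X) x₀ := by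
          intro k
          induction k with
          | zero => simp
          | succ k ih =>
            rw [Finset.sum_range_succ' , pow_succ', Equiv.Perm.mul_apply, ih, toMul_add]
            simp only [pow_zero, Module.End.one_apply, toMul_ofMul, Subgroup.coe_mul, Equiv.Perm.mul_apply]
            rw [hv]
            have hs : (∑ i ∈ Finset.range k, (f ^ (i + 1)) (Additive.ofMul v))
                = f (∑ i ∈ Finset.range k, (f ^ i) (Additive.ofMul v)) := by
              rw [map_sum]
              exact Finset.sum_congr rfl fun i _ => by rw [pow_succ', Module.End.mul_apply]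
            rw [hs]
            show _ = (w * (((Additive.toMul (∑ i ∈ Finset.range k, (f ^ i) (Additive.ofMul v)) : A) : G) : Equiv.Perm X) * w⁻¹) (w x₀)
            rw [Equiv.Perm.mul_apply, Equiv.Perm.inv_def, Equiv.symm_apply_apply, Equiv.Perm.mul_apply]
        have h0 := hit (q ^ j)
        rw [← LinearMap.sum_apply, hsum] at h0
        have h1 := hfix _ h0
        have h2 := orderOf_dvd_of_pow_eq_one h1
        rw [hord] at h2
        have := (Nat.pow_dvd_pow_iff_le_right hp.out.one_lt).1 h2
        omega
    · -- recursion on the orbits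
      have hij : i - 1 < j := by
        by_contra hge
        have hi' : i = j + 1 := by omega
        rw [hQ, hi'] at hcard
        have h1 : Nat.card {y // r y x₀} = 1 :=
          Nat.eq_of_mul_eq_mul_left (pow_pos hp.out.pos _) (hcard.trans (mul_one _).symm)
        refine hA1 (eq_bot_iff.2 fun a ha => Subgroup.mem_bot.2 (Subtype.ext (Equiv.ext fun x => ?_)))
        have h2 : Subsingleton {y // r y x} := (Nat.card_eq_one_iff_unique.1 ((hsize x).trans h1)).1
        have h3 : (⟨(a : Equiv.Perm X) x, ⟨⟨a, ha⟩, rfl⟩⟩ : {y // r y x}) = ⟨x, r.refl x⟩ :=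
          Subsingleton.elim _ _
        exact congrArg Subtype.val h3
      haveI : Group.IsSolvable act.range := Group.isSolvable_of_surjective act.rangeRestrict_surjective
      obtain ⟨τ, hτ1, hτ2⟩ := ih (i - 1) hij (X := Quotient r)
        (by rw [hQ, Nat.sub_add_cancel hi0]) act.range inferInstance (act ⟨w, hw⟩) ⟨_, rfl⟩
        (Quotient.mk r x₀) (fun z => Quotient.inductionOn z fun x => by
          obtain ⟨k, hk⟩ := htr x
          refine ⟨k, ?_⟩
          rw [← map_pow, hact]
          exact congrArg _ hk)
      refine ⟨fun x => τ (Quotient.mk r x), fun x => ?_, fun g hg => ?_⟩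
      · show τ (Quotient.mk r (w x)) = _
        rw [← hact ⟨w, hw⟩ x, hτ1]
      · obtain ⟨c, d, hcd⟩ := hτ2 _ ⟨⟨g, hg⟩, rfl⟩
        exact ⟨c, d, fun x => by rw [← hcd, hact]⟩

end CfsgLib.AltPair
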