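import Cfsg.Agent.AltPair.Setup

/-!
# Two `p`-elements of an alternating group with bad conjugates
-/

set_option autoImplicit false
set_option linter.style.haveILetI false
set_option linter.unusedSectionVars false

namespace CfsgLib.AltPair

open MulAction

universe u

section Periods

variable {X : Type u} [Fintype X] [DecidableEq X] (g : Equiv.Perm X)

/-- The cycle length of a point. -/
noncomputable def per (y : X) : ℕ := MulAction.period g y

theorem pow_eq_iff (y : X) (n : ℕ) : (g ^ n) y = y ↔ per g y ∣ n :=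
  pow_smul_eq_iff_period_dvd (m := g) (a := y)

theorem per_pos (y : X) : 0 < per g y :=
  Nat.pos_of_dvd_of_pos (period_dvd_orderOf g y) (orderOf_pos g)

theorem pow_eq_mod (y : X) (n : ℕ) : (g ^ n) y = (g ^ (n % per g y)) y := by
  conv_lhs => rw [← Nat.mod_add_div n (per g y), pow_add, Equiv.Perm.mul_apply]
  rw [(pow_eq_iff g y _).2 (dvd_mul_right _ _)]

theorem pow_inj {y : X} {a b : ℕ} (ha : a < per g y) (hb : b < per g y)
    (h : (g ^ a) y = (g ^ b) y) : a = b := by
  have key : ∀ a b, a ≤ b → b < per g y → (g ^ a) y = (g ^ b) y → a = b := by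
    intro a b hle hb h
    obtain ⟨d, rfl⟩ := Nat.exists_eq_add_of_le hle
    rw [pow_add, Equiv.Perm.mul_apply] at h
    have := Nat.eq_zero_of_dvd_of_lt ((pow_eq_iff g y d).1 ((g ^ a).injective h).symm) (by omega)
    omega
  rcases le_total a b with h' | h'
  · exact key a b h' hb h
  · exact (key b a h' ha h.symm).symm

/-- The cycle of a point. -/
noncomputable def orb (y : X) : Finset X := (Finset.range (per g y)).image fun i => (g ^ i) y

theorem card_orb (y : X) : (orb g y).card = per g y := by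
  rw [orb, Finset.card_image_of_injOn, Finset.card_range]
  intro a ha b hb h
  exact pow_inj g (Finset.mem_range.1 ha) (Finset.mem_range.1 hb) h

theorem mem_orb_self (y : X) : y ∈ orb g y :=
  Finset.mem_image.2 ⟨0, Finset.mem_range.2 (per_pos g y), rfl⟩

/-- Invariance of a finite set. -/
def Inv (S : Finset X) : Prop := ∀ x ∈ S, g x ∈ S

theorem inv_orb (y : X) : Inv g (orb g y) := by
  intro x hx
  obtain ⟨i, -, rfl⟩ := Finset.mem_image.1 hx
  rw [← Equiv.Perm.mul_apply, ← pow_succ', pow_eq_mod]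
  exact Finset.mem_image.2 ⟨_, Finset.mem_range.2 (Nat.mod_lt _ (per_pos g y)), rfl⟩

theorem orb_subset {S : Finset X} (hS : Inv g S) {y : X} (hy : y ∈ S) : orb g y ⊆ S := by
  intro x hx
  obtain ⟨i, -, rfl⟩ := Finset.mem_image.1 hx
  clear hx
  induction i with
  | zero => exact hy
  | succ i ih => rw [pow_succ', Equiv.Perm.mul_apply]; exact hS _ ih

theorem mem_of_inv {S : Finset X} (hS : Inv g S) {x : X} (hx : g x ∈ S) : x ∈ S := by
  have h : S.image g = S := Finset.eq_of_subset_of_card_le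
    (fun z hz => by obtain ⟨a, ha, rfl⟩ := Finset.mem_image.1 hz; exact hS a ha)
    (Finset.card_image_of_injective S g.injective).ge
  rw [← h] at hx
  obtain ⟨a, ha, hax⟩ := Finset.mem_image.1 hx
  rwa [← g.injective hax]

theorem exists_block {p : ℕ} [hp : Fact p.Prime] : ∀ (j : ℕ) (R : Finset X), Inv g R →
    (∀ x ∈ R, per g x ∣ p ^ j) → p ^ j ≤ R.card → ∀ y ∈ R, (∀ x ∈ R, per g x ≤ per g y) →
    ∃ S ⊆ R, Inv g S ∧ S.card = p ^ j ∧ y ∈ S := by
  intro j
  induction j with
  | zero =>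
    intro R hR hper _ y hy _
    have h1 : per g y = 1 := Nat.dvd_one.1 (by simpa using hper y hy)
    have := card_orb g y
    rw [h1] at this
    exact ⟨orb g y, orb_subset g hR hy, inv_orb g y, by rw [this, pow_zero], mem_orb_self g y⟩
  | succ j ih =>
    intro R hR hper hcard y hy hmax
    obtain ⟨i, hi, hiy⟩ := (Nat.dvd_prime_pow hp.out).1 (hper y hy)
    rcases hi.lt_or_eq with hlt | rfl
    · have hsmall : ∀ x ∈ R, per g x ∣ p ^ j := by
        intro x hx
        obtain ⟨k, -, hkx⟩ := (Nat.dvd_prime_pow hp.out).1 (hper x hx)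
        rw [hkx]
        refine pow_dvd_pow p ?_
        have := hmax x hx
        rw [hkx, hiy] at this
        have := (Nat.pow_le_pow_iff_right hp.out.one_lt).1 this
        omega
      have C : ∀ k : ℕ, ∀ (R : Finset X), Inv g R → (∀ x ∈ R, per g x ∣ p ^ j) →
          (k + 1) * p ^ j ≤ R.card → ∀ y ∈ R, (∀ x ∈ R, per g x ≤ per g y) →
          ∃ S ⊆ R, Inv g S ∧ S.card = (k + 1) * p ^ j ∧ y ∈ S := by
        intro k
        induction k with
        | zero =>
          intro R hR hper hcard y hy hmax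
          simpa using ih R hR hper (by simpa using hcard) y hy hmax
        | succ k ihk =>
          intro R hR hper hcard y hy hmax
          obtain ⟨S, hSR, hS, hSc, hyS⟩ := ih R hR hper
            (le_trans (Nat.le_mul_of_pos_left _ (by omega)) hcard) y hy hmax
          have hR' : Inv g (R \ S) := fun x hx => by
            rw [Finset.mem_sdiff] at hx ⊢
            exact ⟨hR x hx.1, fun h => hx.2 (mem_of_inv g hS h)⟩
          have hc' : (k + 1) * p ^ j ≤ (R \ S).card := by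
            rw [Finset.card_sdiff_of_subset hSR, hSc]
            have : (k + 1 + 1) * p ^ j = (k + 1) * p ^ j + p ^ j := by ring
            omega
          have hne : (R \ S).Nonempty := Finset.card_pos.1
            (lt_of_lt_of_le (Nat.mul_pos (by omega) (pow_pos hp.out.pos _)) hc')
          obtain ⟨y', hy', hy'max⟩ := Finset.exists_max_image (R \ S) (per g) hne
          obtain ⟨T, hTR, hT, hTc, -⟩ := ihk (R \ S) hR'
            (fun x hx => hper x (Finset.mem_sdiff.1 hx).1) hc' y' hy' hy'max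
          refine ⟨S ∪ T, Finset.union_subset hSR (hTR.trans Finset.sdiff_subset), fun x hx => ?_, ?_,
            Finset.mem_union_left _ hyS⟩
          · rw [Finset.mem_union] at hx ⊢
            exact hx.imp (hS x) (hT x)
          · rw [Finset.card_union_of_disjoint, hSc, hTc]
            · ring
            · exact Finset.disjoint_left.2 fun x hxS hxT => (Finset.mem_sdiff.1 (hTR hxT)).2 hxS
      obtain ⟨d, hd⟩ : ∃ d, p = d + 1 := ⟨p - 1, by have := hp.out.pos; omega⟩
      have hpow : p ^ (j + 1) = (d + 1) * p ^ j := by rw [pow_succ', ← hd]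
      rw [hpow] at hcard ⊢
      exact C d R hR hsmall hcard y hy hmax
    · exact ⟨orb g y, orb_subset g hR hy, inv_orb g y, by rw [card_orb, hiy], mem_orb_self g y⟩

/-- The coordinates along a cycle. -/
theorem exists_cycle_model {b : ℕ} [NeZero b] {x : X} (hb : per g x = b) :
    ∃ κ : ZMod b → X, Function.Injective κ ∧ ∀ i, g (κ i) = κ (Equiv.addRight (1 : ZMod b) i) := by
  refine ⟨fun i => (g ^ i.val) x, fun i k h => ZMod.val_injective b ?_, fun i => ?_⟩
  · exact pow_inj g (hb ▸ ZMod.val_lt i) (hb ▸ ZMod.val_lt k) h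
  · show g ((g ^ i.val) x) = (g ^ (i + 1).val) x
    rw [← Equiv.Perm.mul_apply, ← pow_succ', pow_eq_mod g x (i.val + 1), hb]
    congr 2
    rw [← ZMod.val_natCast, Nat.cast_add, ZMod.natCast_zmod_val, Nat.cast_one]

/-- A model of `g` on an invariant set with prescribed points. -/
theorem exists_set_model {b k : ℕ} [NeZero b] {S : Finset X} (hS : Inv g S) (hSc : S.card = b)
    (q : Fin k → X) (hq : Function.Injective q) (hqS : ∀ i, q i ∈ S)
    (t : Fin k → ZMod b) (ht : Function.Injective t) :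
    ∃ (ι : ZMod b → X) (a : Equiv.Perm (ZMod b)), Function.Injective ι ∧
      (∀ i, g (ι i) = ι (a i)) ∧ ∀ i, ι (t i) = q i := by
  classical
  let e0 : ZMod b ≃ S := Fintype.equivOfCardEq (by rw [ZMod.card, Fintype.card_coe, hSc])
  obtain ⟨π, hπ⟩ := exists_perm_extend (f := fun i => e0 (t i)) (g := fun i => (⟨q i, hqS i⟩ : S))
    (e0.injective.comp ht) (fun i k h => hq (congrArg Subtype.val h))
  let E : ZMod b ≃ S := e0.trans π
  let gS : Equiv.Perm S := Equiv.ofBijective (fun x => ⟨g x, hS x x.2⟩)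
    ((Finite.injective_iff_bijective).1 fun x y h => Subtype.ext (g.injective (congrArg Subtype.val h)))
  refine ⟨fun i => (E i : X), (E.trans gS).trans E.symm, Subtype.val_injective.comp E.injective,
    fun i => ?_, fun i => ?_⟩
  · show g (E i : X) = (E (E.symm (gS (E i))) : X)
    rw [Equiv.apply_symm_apply]
    rfl
  · show ((π (e0 (t i)) : S) : X) = q i
    rw [hπ]

end Periods

theorem not_pow_of_short {α : Type*} [Fintype α] [DecidableEq α] {p m : ℕ} (hm : m.Coprime p)
    {t : Equiv.Perm α} {x : α} (h1 : t x ≠ x) (h2 : (t ^ m) x = x) : ¬ ∃ k : ℕ, t ^ p ^ k = 1 := by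
  rintro ⟨k, hk⟩
  have h3 : per t x ∣ p ^ k := (pow_eq_iff t x _).1 (by rw [hk]; rfl)
  have h4 := Nat.eq_one_of_dvd_coprimes (Nat.Coprime.pow_right k hm) ((pow_eq_iff t x m).1 h2) h3
  refine h1 ?_
  have := (pow_eq_iff t x 1).2 (by rw [h4])
  rwa [pow_one] at this

/-- A `p`-element and a full cycle, not translating the residues alike. -/
theorem bad_cycle {p j b : ℕ} [hp : Fact p.Prime] (hp2 : p ≠ 2) [NeZero b] (hb : b = p ^ (j + 1))
    {a : Equiv.Perm (ZMod b)} {k : ℕ} (ha : a ^ p ^ k = 1) (hdvd : p ∣ b) {i i' : ZMod b}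
    (hii : ZMod.castHom hdvd (ZMod p) (a i) - ZMod.castHom hdvd (ZMod p) i ≠
      ZMod.castHom hdvd (ZMod p) (a i') - ZMod.castHom hdvd (ZMod p) i')
    {x : ZMod b} {m : ℕ} (hm : m.Coprime p) (h1 : (a * Equiv.addRight (1 : ZMod b)) x ≠ x)
    (h2 : ((a * Equiv.addRight (1 : ZMod b)) ^ m) x = x) :
    Bad p a (Equiv.addRight (1 : ZMod b)) := by
  refine ⟨not_pow_of_short hm h1 h2, fun hs => ?_⟩
  set c : Equiv.Perm (ZMod b) := Equiv.addRight 1 with hc
  have hcp : ∀ (n : ℕ) (z : ZMod b), (c ^ n) z = z + n := by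
    intro n
    induction n with
    | zero => intro z; simp
    | succ n ih =>
      intro z
      rw [pow_succ', Equiv.Perm.mul_apply, ih, hc, Equiv.coe_addRight, Nat.cast_succ]
      exact add_assoc z _ 1
  obtain ⟨τ, hτ1, hτ2⟩ := affine_mod hp2 j (X := ZMod b) (by rw [Nat.card_zmod, hb]) _ hs c
    (Subgroup.subset_closure (Set.mem_insert_of_mem _ rfl)) 0
    (fun z => ⟨z.val, by rw [hcp, zero_add, ZMod.natCast_zmod_val]⟩)
  have hτn : ∀ n : ℕ, τ (n : ZMod b) = τ 0 + n := by
    intro n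
    induction n with
    | zero => simp
    | succ n ih =>
      rw [Nat.cast_succ, Nat.cast_succ, show ((n : ZMod b) + 1) = c (n : ZMod b) from rfl, hτ1, ih,
        add_assoc]
  have hτ : ∀ z : ZMod b, τ z = τ 0 + ZMod.castHom hdvd (ZMod p) z := fun z => by
    conv_lhs => rw [← ZMod.natCast_zmod_val z]
    rw [hτn]
    conv_rhs => rw [← ZMod.natCast_zmod_val z, map_natCast]
  obtain ⟨C, d, hCd⟩ := hτ2 a (Subgroup.subset_closure (Set.mem_insert _ _))
  have hit : ∀ n : ℕ, ∃ D, ∀ z, τ ((a ^ n) z) = C ^ n * τ z + D := by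
    intro n
    induction n with
    | zero => exact ⟨0, fun z => by simp⟩
    | succ n ih =>
      obtain ⟨D, hD⟩ := ih
      exact ⟨C * D + d, fun z => by rw [pow_succ', Equiv.Perm.mul_apply, hCd, hD, pow_succ']; ring⟩
  obtain ⟨D, hD⟩ := hit (p ^ k)
  have hC : C = 1 := by
    have e0 := hD 0
    have e1 := hD 1
    rw [ha, Equiv.Perm.one_apply] at e0 e1
    rw [hτ 1, map_one] at e1
    have : C ^ p ^ k = 1 := by linear_combination e0 - e1
    rwa [ZMod.pow_card_pow] at this
  refine hii ?_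
  have e := hCd i
  have e' := hCd i'
  rw [hC, one_mul, hτ, hτ i] at e
  rw [hC, one_mul, hτ, hτ i'] at e'
  linear_combination e - e'

/-- A permutation given by mutually inverse tables. -/
def mkPerm {n : ℕ} (f g : Fin n → Fin n) (h : (∀ i, g (f i) = i) ∧ ∀ i, f (g i) = i) :
    Equiv.Perm (Fin n) := ⟨f, g, h.1, h.2⟩

def a₁ : Equiv.Perm (Fin 5) := mkPerm ![0, 1, 3, 4, 2] ![0, 1, 4, 2, 3] (by decide)
def c₁ : Equiv.Perm (Fin 5) := mkPerm ![1, 2, 0, 3, 4] ![2, 0, 1, 3, 4] (by decide)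
def a₂ : Equiv.Perm (Fin 6) := mkPerm ![1, 2, 0, 4, 5, 3] ![2, 0, 1, 5, 3, 4] (by decide)
def c₂₁ : Equiv.Perm (Fin 6) := mkPerm ![0, 1, 3, 5, 4, 2] ![0, 1, 5, 2, 4, 3] (by decide)
def c₂₂ : Equiv.Perm (Fin 6) := mkPerm ![1, 3, 5, 0, 2, 4] ![3, 0, 4, 1, 5, 2] (by decide)

theorem mem_word {G : Type u} [Group G] (a c : G) :
    a ∈ Subgroup.closure ({a, c} : Set G) ∧ c ∈ Subgroup.closure ({a, c} : Set G) :=
  ⟨Subgroup.subset_closure (Set.mem_insert _ _),
    Subgroup.subset_closure (Set.mem_insert_of_mem _ rfl)⟩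

theorem bad_one_one : Bad 3 a₁ c₁ := by
  obtain ⟨ha, hc⟩ := mem_word a₁ c₁
  refine ⟨not_pow_of_short (m := 5) (x := 0) (by decide) (by decide) (by decide), ?_⟩
  refine not_solvable_of_perfect (x := c₁ * a₁ * a₁ * c₁) (y := c₁ * a₁ * c₁)
    (x' := a₁ * c₁ * a₁ * a₁) (y' := a₁ * c₁ * a₁) (by decide) ?_ ?_ ?_ ?_ (by decide +kernel)
    (by decide +kernel)
  all_goals repeat' apply mul_mem
  all_goals assumption

theorem bad_two_two : Bad 3 a₂ c₂₂ := by
  obtain ⟨ha, hc⟩ := mem_word a₂ c₂₂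
  refine ⟨not_pow_of_short (m := 5) (x := 0) (by decide) (by decide) (by decide), ?_⟩
  refine not_solvable_of_perfect (x := c₂₂ * a₂ * a₂ * c₂₂) (y := c₂₂ * a₂ * c₂₂)
    (x' := a₂ * c₂₂ * a₂ * a₂) (y' := a₂ * c₂₂ * a₂) (by decide) ?_ ?_ ?_ ?_ (by decide +kernel)
    (by decide +kernel)
  all_goals repeat' apply mul_mem
  all_goals assumption

theorem bad_two_one : Bad 3 a₂ c₂₁ := by
  obtain ⟨ha, hc⟩ := mem_word a₂ c₂₁
  refine ⟨not_pow_of_short (m := 5) (x := 0) (by decide) (by decide) (by decide), ?_⟩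
  refine not_solvable_of_perfect
    (x := c₂₁ * a₂ * c₂₁ * a₂ * a₂ * c₂₁ * a₂ * c₂₁ * c₂₁) (y := a₂)
    (x' := a₂ * a₂ * c₂₁ * a₂ * c₂₁ * c₂₁ * a₂ * c₂₁ * a₂) (y' := c₂₁) (by decide) ?_ ?_ ?_ ?_
    (by decide +kernel) (by decide +kernel)
  all_goals repeat' apply mul_mem
  all_goals assumption

/-- Twists by a permutation commuting with the first table. -/
theorem twist_of_commuting {α : Type*} [Fintype α] [DecidableEq α] {p : ℕ} {a c π₀ : Equiv.Perm α}
    (hs : Equiv.Perm.sign π₀ = -1) (hc : π₀ * a * π₀⁻¹ = a) (h : Bad p a c) :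
    ∀ s : ℤˣ, ∃ π : Equiv.Perm α, Equiv.Perm.sign π = s ∧ Bad p (π * a * π⁻¹) c := by
  intro s
  rcases Int.units_eq_one_or s with rfl | rfl
  · exact ⟨1, map_one _, by simpa using h⟩
  · exact ⟨π₀, hs, by rwa [hc]⟩

variable {X : Type u} [Fintype X] [DecidableEq X]

/-- Two disjoint cycles of length three. -/
def TwoTriples (g : Equiv.Perm X) : Prop :=
  ∃ y z : X, g y ≠ y ∧ g z ≠ z ∧ z ≠ y ∧ z ≠ g y ∧ z ≠ g (g y)

section Three

variable {g : Equiv.Perm X} (h3 : ∀ x, g (g (g x)) = x)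
include h3

theorem triple_ne {y : X} (hy : g y ≠ y) :
    g (g y) ≠ y ∧ g (g y) ≠ g y :=
  ⟨fun h => hy ((congrArg g h).symm.trans (h3 y)), fun h => hy (g.injective h)⟩

theorem two_model (h : TwoTriples g) : ∃ y z : X,
    Function.Injective ![y, g y, g (g y), z, g z, g (g z)] := by
  obtain ⟨y, z, hy, hz, h0, h1, h2⟩ := h
  obtain ⟨y1, y2⟩ := triple_ne h3 hy
  obtain ⟨z1, z2⟩ := triple_ne h3 hz
  have a0 : y ≠ g z := fun e => h2 (by rw [e, h3])
  have a1 : y ≠ g (g z) := fun e => h1 (by rw [e, h3])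
  have b0 : g y ≠ g z := fun e => h0 (g.injective e).symm
  have b1 : g y ≠ g (g z) := fun e => a0 (g.injective e)
  have c0 : g (g y) ≠ g z := fun e => h1 (g.injective e).symm
  have c1 : g (g y) ≠ g (g z) := fun e => h0 (g.injective (g.injective e)).symm
  refine ⟨y, z, List.nodup_ofFn.1 ?_⟩
  simp [hy.symm, y1.symm, y2.symm, h0.symm, h1.symm, h2.symm, a0, a1, b0, b1, c0, c1, hz.symm,
    z1.symm, z2.symm]

theorem one_model (hne : g ≠ 1) (h : ¬ TwoTriples g) :
    ∃ y : X, g y ≠ y ∧ g (g y) ≠ y ∧ g (g y) ≠ g y ∧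
      ((Finset.univ.filter fun x => g x = x).card + 3 = Fintype.card X) := by
  obtain ⟨y, hy⟩ : ∃ y, g y ≠ y := by
    by_contra hno
    push Not at hno
    exact hne (Equiv.ext hno)
  obtain ⟨y1, y2⟩ := triple_ne h3 hy
  refine ⟨y, hy, y1, y2, ?_⟩
  have hset : (Finset.univ.filter fun x => ¬ g x = x) = {y, g y, g (g y)} := by
    ext x
    simp only [Finset.mem_filter, Finset.mem_univ, true_and, Finset.mem_insert, Finset.mem_singleton]
    refine ⟨fun hx => ?_, ?_⟩
    · by_contra hno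
      push Not at hno
      exact h ⟨y, x, hy, hx, hno.1, hno.2.1, hno.2.2⟩
    · rintro (rfl | rfl | rfl)
      · exact hy
      · exact y2
      · intro e
        exact y2 (g.injective e)
  have := Finset.card_filter_add_card_filter_not (s := (Finset.univ : Finset X)) fun x => g x = x
  rw [hset, Finset.card_univ] at this
  rw [← this]
  congr 1
  rw [Finset.card_insert_of_notMem, Finset.card_pair y2.symm]
  simp [Ne.symm hy, Ne.symm y1]

end Three

theorem inj_five {g : Equiv.Perm X} {f f' y : X} (hff : f ≠ f') (hf : g f = f) (hf' : g f' = f')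
    (hy : g y ≠ y) (h1 : g (g y) ≠ y) (h2 : g (g y) ≠ g y) :
    Function.Injective ![f, f', y, g y, g (g y)] ∧ Function.Injective ![y, g y, g (g y), f, f'] := by
  have k : ∀ x, g x = x → x ≠ y ∧ x ≠ g y ∧ x ≠ g (g y) := fun x hx =>
    ⟨fun e => hy (e ▸ hx), fun e => h2 (e ▸ hx), fun e => h2 (g.injective (e ▸ hx))⟩
  obtain ⟨p0, p1, p2⟩ := k f hf
  obtain ⟨q0, q1, q2⟩ := k f' hf'
  exact ⟨List.nodup_ofFn.1 (by simp [hff, p0, p1, p2, q0, q1, q2, hy.symm, h1.symm, h2.symm]),
    List.nodup_ofFn.1 (by simp [hff, p0.symm, p1.symm, p2.symm, q0.symm, q1.symm, q2.symm, hy.symm,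
      h1.symm, h2.symm])⟩

/-- The case of elements of order three. -/
theorem goal_three (hn : 5 ≤ Fintype.card X) {u w : Equiv.Perm X} (hu1 : u ≠ 1) (hw1 : w ≠ 1)
    (hu : ∀ x, u (u (u x)) = x) (hw : ∀ x, w (w (w x)) = x) : Goal 3 u w := by
  have tw₁ := twist_of_commuting (π₀ := Equiv.swap (0 : Fin 5) 1) (a := a₁) (by decide)
    (by decide +kernel) bad_one_one
  have two : ∀ {u w : Equiv.Perm X}, (∀ x, u (u (u x)) = x) → (∀ x, w (w (w x)) = x) → w ≠ 1 →
      TwoTriples u → Goal 3 u w := by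
    intro u w hu hw hw1 hU
    obtain ⟨y, z, hι⟩ := two_model hu hU
    have hιa : ∀ i, u (![y, u y, u (u y), z, u z, u (u z)] i) =
        ![y, u y, u (u y), z, u z, u (u z)] (a₂ i) := by
      intro i; fin_cases i <;> simp [a₂, mkPerm, hu y, hu z]
    by_cases hW : TwoTriples w
    · obtain ⟨y', z', hκ⟩ := two_model hw hW
      refine goal_of_twist (κ := ![y', w y', z', w (w y'), w (w z'), w z']) (c := c₂₂) hι ?_ hιa ?_
        (twist_of_commuting (π₀ := Equiv.swap (0 : Fin 6) 3 * Equiv.swap 1 4 * Equiv.swap 2 5)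
          (by decide) (by decide +kernel) bad_two_two)
      · have : ![y', w y', z', w (w y'), w (w z'), w z'] =
            ![y', w y', w (w y'), z', w z', w (w z')] ∘ ![0, 1, 3, 2, 5, 4] := by
          funext i; fin_cases i <;> rfl
        rw [this]
        exact hκ.comp (by decide)
      · intro i; fin_cases i <;> simp [c₂₂, mkPerm, hw y', hw z']
    · obtain ⟨y', e0, e1, e2, hfix⟩ := one_model hw hw1 hW
      have h6 : 6 ≤ Fintype.card X := by
        have := Fintype.card_le_of_injective _ hι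
        simpa using this
      obtain ⟨f, hf, f', hf', f'', hf'', d1, d2, d3⟩ := Finset.two_lt_card.1
        (show 2 < (Finset.univ.filter fun x => w x = x).card by omega)
      simp only [Finset.mem_filter, Finset.mem_univ, true_and] at hf hf' hf''
      refine goal_of_twist (κ := ![f, f', y', w y', f'', w (w y')]) (c := c₂₁) hι ?_ hιa ?_
        (twist_of_commuting (π₀ := Equiv.swap (0 : Fin 6) 3 * Equiv.swap 1 4 * Equiv.swap 2 5)
          (by decide) (by decide +kernel) bad_two_one)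
      · have k : ∀ x, w x = x → x ≠ y' ∧ x ≠ w y' ∧ x ≠ w (w y') := fun x hx =>
          ⟨fun e => e0 (e ▸ hx), fun e => e2 (e ▸ hx), fun e => e2 (w.injective (e ▸ hx))⟩
        obtain ⟨p0, p1, p2⟩ := k f hf
        obtain ⟨q0, q1, q2⟩ := k f' hf'
        obtain ⟨r0, r1, r2⟩ := k f'' hf''
        exact List.nodup_ofFn.1 (by simp [d1, d2, d3, p0, p1, p2, q0, q1, q2, r0.symm, r1.symm, r2,
          e0.symm, e1.symm, e2.symm])
      · intro i; fin_cases i <;> simp [c₂₁, mkPerm, hf, hf', hf'', hw y']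
  by_cases hU : TwoTriples u
  · exact two hu hw hw1 hU
  by_cases hW : TwoTriples w
  · exact goal_symm (two hw hu hu1 hW)
  obtain ⟨y, y0, y1, y2, hfu⟩ := one_model hu hu1 hU
  obtain ⟨y', z0, z1, z2, hfw⟩ := one_model hw hw1 hW
  obtain ⟨f, hf, f', hf', hff⟩ := Finset.one_lt_card.1
    (show 1 < (Finset.univ.filter fun x => u x = x).card by omega)
  obtain ⟨g, hg, g', hg', hgg⟩ := Finset.one_lt_card.1
    (show 1 < (Finset.univ.filter fun x => w x = x).card by omega)
  simp only [Finset.mem_filter, Finset.mem_univ, true_and] at hf hf' hg hg'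
  refine goal_of_twist (κ := ![y', w y', w (w y'), g, g']) (c := c₁)
    (inj_five hff hf hf' y0 y1 y2).1 (inj_five hgg hg hg' z0 z1 z2).2 ?_ ?_ tw₁
  · intro i; fin_cases i <;> simp [a₁, mkPerm, hf, hf', hu y]
  · intro i; fin_cases i <;> simp [c₁, mkPerm, hg, hg', hw y']

theorem cast_two_ne {p : ℕ} [hp : Fact p.Prime] (hp2 : p ≠ 2) :
    (2 : ZMod p) ≠ 0 ∧ (4 : ZMod p) ≠ 0 := by
  have key : ∀ n : ℕ, n ≠ 0 → (∀ q : ℕ, q.Prime → q ∣ n → q = 2) → (n : ZMod p) ≠ 0 := fun n _ h h0 =>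
    hp2 (h p hp.out ((ZMod.natCast_eq_zero_iff n p).1 h0))
  refine ⟨by simpa using key 2 (by omega) fun q hq h => (Nat.prime_dvd_prime_iff_eq hq Nat.prime_two).1 h, ?_⟩
  simpa using key 4 (by omega) fun q hq h =>
    (Nat.prime_dvd_prime_iff_eq hq Nat.prime_two).1 (hq.dvd_of_dvd_pow (show q ∣ 2 ^ 2 by simpa using h))

/-- The twists of a five-cycle. -/
theorem five_twist : ∀ s : ℤˣ, ∃ π : Equiv.Perm (ZMod 5), Equiv.Perm.sign π = s ∧
    Bad 5 (π * Equiv.addRight (1 : ZMod 5) * π⁻¹) (Equiv.addRight (1 : ZMod 5)) := by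
  have hs : Equiv.Perm.sign (Equiv.swap (1 : ZMod 5) 2 * Equiv.swap (3 : ZMod 5) 4) = 1 ∧
      Equiv.Perm.sign (Equiv.swap (3 : ZMod 5) 4) = -1 := by decide
  have h5 : ∀ π : Equiv.Perm (ZMod 5), π = Equiv.swap (1 : ZMod 5) 2 * Equiv.swap (3 : ZMod 5) 4 ∨
      π = Equiv.swap (3 : ZMod 5) 4 → (π * Equiv.addRight (1 : ZMod 5) * π⁻¹) ^ 5 ^ 1 = 1 := by
    intro π h
    have : (Equiv.addRight (1 : ZMod 5)) ^ 5 = 1 := by decide +kernel
    rw [pow_one, conj_pow, this, mul_one, mul_inv_cancel]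
  have e1 : (ZMod.castHom (dvd_refl 5) (ZMod 5))
        ((Equiv.swap (1 : ZMod 5) 2 * Equiv.swap (3 : ZMod 5) 4 * Equiv.addRight (1 : ZMod 5) * (Equiv.swap (1 : ZMod 5) 2 * Equiv.swap (3 : ZMod 5) 4)⁻¹) 0) -
      (ZMod.castHom (dvd_refl 5) (ZMod 5)) 0 ≠
    (ZMod.castHom (dvd_refl 5) (ZMod 5))
        ((Equiv.swap (1 : ZMod 5) 2 * Equiv.swap (3 : ZMod 5) 4 * Equiv.addRight (1 : ZMod 5) * (Equiv.swap (1 : ZMod 5) 2 * Equiv.swap (3 : ZMod 5) 4)⁻¹) 1) -
      (ZMod.castHom (dvd_refl 5) (ZMod 5)) 1 := by decide +kernel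
  have e2 : (ZMod.castHom (dvd_refl 5) (ZMod 5))
        ((Equiv.swap (3 : ZMod 5) 4 * Equiv.addRight (1 : ZMod 5) * (Equiv.swap (3 : ZMod 5) 4)⁻¹) 0) -
      (ZMod.castHom (dvd_refl 5) (ZMod 5)) 0 ≠
    (ZMod.castHom (dvd_refl 5) (ZMod 5))
        ((Equiv.swap (3 : ZMod 5) 4 * Equiv.addRight (1 : ZMod 5) * (Equiv.swap (3 : ZMod 5) 4)⁻¹) 2) -
      (ZMod.castHom (dvd_refl 5) (ZMod 5)) 2 := by decide +kernel
  have f1 : (Equiv.swap (1 : ZMod 5) 2 * Equiv.swap (3 : ZMod 5) 4 * Equiv.addRight (1 : ZMod 5) *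
      (Equiv.swap (1 : ZMod 5) 2 * Equiv.swap (3 : ZMod 5) 4)⁻¹ * Equiv.addRight (1 : ZMod 5)) 0 ≠ 0 ∧
    ((Equiv.swap (1 : ZMod 5) 2 * Equiv.swap (3 : ZMod 5) 4 * Equiv.addRight (1 : ZMod 5) *
      (Equiv.swap (1 : ZMod 5) 2 * Equiv.swap (3 : ZMod 5) 4)⁻¹ * Equiv.addRight (1 : ZMod 5)) ^ 3) 0 = 0 := by decide +kernel
  have f2 : (Equiv.swap (3 : ZMod 5) 4 * Equiv.addRight (1 : ZMod 5) * (Equiv.swap (3 : ZMod 5) 4)⁻¹ * Equiv.addRight (1 : ZMod 5)) 0 ≠ 0 ∧
    ((Equiv.swap (3 : ZMod 5) 4 * Equiv.addRight (1 : ZMod 5) * (Equiv.swap (3 : ZMod 5) 4)⁻¹ * Equiv.addRight (1 : ZMod 5)) ^ 2) 0 = 0 := by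
    decide +kernel
  haveI : Fact (Nat.Prime 5) := ⟨by norm_num⟩
  intro s
  rcases Int.units_eq_one_or s with rfl | rfl
  · exact ⟨_, hs.1, bad_cycle (j := 0) (k := 1) (by norm_num) (by norm_num) (h5 _ (Or.inl rfl))
      (dvd_refl 5) e1 (m := 3) (by norm_num) f1.1 f1.2⟩
  · exact ⟨_, hs.2, bad_cycle (j := 0) (k := 1) (by norm_num) (by norm_num) (h5 _ (Or.inr rfl))
      (dvd_refl 5) e2 (m := 2) (by norm_num) f2.1 f2.2⟩

/-- The case of a cycle of length five. -/
theorem goal_five {u w : Equiv.Perm X} {y x : X} (hy : per u y = 5) (hx : per w x = 5) :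
    Goal 5 u w := by
  obtain ⟨ι, hι, hιa⟩ := exists_cycle_model u hy
  obtain ⟨κ, hκ, hκc⟩ := exists_cycle_model w hx
  exact goal_of_twist hι hκ hιa hκc five_twist

theorem small_ne {b : ℕ} {m n : ℕ} (hm : m < b) (hn : n < b) (hne : m ≠ n) :
    (m : ZMod b) ≠ (n : ZMod b) := by
  intro h
  rw [ZMod.natCast_eq_natCast_iff', Nat.mod_eq_of_lt hm, Nat.mod_eq_of_lt hn] at h
  exact hne h

/-- The case of a long cycle. -/
theorem goal_long {p j : ℕ} [hp : Fact p.Prime] (hp2 : p ≠ 2) {b : ℕ} [NeZero b] (hb : b = p ^ (j + 1))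
    (h7 : 7 ≤ b) {u w : Equiv.Perm X} (hu1 : u ≠ 1) {k : ℕ} (hu : u ^ p ^ k = 1)
    (hper : ∀ z, per u z ≤ b) {x : X} (hx : per w x = b) : Goal p u w := by
  obtain ⟨κ, hκ, hκc⟩ := exists_cycle_model w hx
  have hdvd : p ∣ b := hb ▸ dvd_pow_self p (Nat.succ_ne_zero _)
  have hper' : ∀ z ∈ (Finset.univ : Finset X), per u z ∣ p ^ (j + 1) := fun z _ => by
    obtain ⟨i, -, hi⟩ := (Nat.dvd_prime_pow hp.out).1
      ((pow_eq_iff u z _).1 (show (u ^ p ^ k) z = z by rw [hu]; rfl))
    rw [hi]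
    exact pow_dvd_pow p ((Nat.pow_le_pow_iff_right hp.out.one_lt).1 (hi ▸ hb ▸ hper z))
  haveI : Nonempty X := ⟨x⟩
  obtain ⟨y, -, hymax⟩ := Finset.exists_max_image Finset.univ (per u) Finset.univ_nonempty
  have hcard : p ^ (j + 1) ≤ (Finset.univ : Finset X).card := by
    rw [← hb, ← hx, ← card_orb]
    exact Finset.card_le_univ _
  obtain ⟨S, -, hS, hSc, hyS⟩ := exists_block u (j + 1) Finset.univ (fun z _ => Finset.mem_univ _)
    hper' hcard y (Finset.mem_univ _) fun z hz => hymax z hz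
  rw [← hb] at hSc
  have hy : u y ≠ y := by
    intro h
    refine hu1 (Equiv.ext fun z => ?_)
    have h1 : per u y ∣ 1 := (pow_eq_iff u y 1).1 (by rw [pow_one]; exact h)
    have h2 := hymax z (Finset.mem_univ _)
    rw [Nat.dvd_one.1 h1] at h2
    have h3 := (pow_eq_iff u z 1).2 (by rw [show per u z = 1 from le_antisymm h2 (per_pos u z)])
    rwa [pow_one] at h3
  obtain ⟨n2, n4⟩ := cast_two_ne (p := p) hp2
  let c : Equiv.Perm (ZMod b) := Equiv.addRight 1
  have hne : ∀ m n : ℕ, m < 6 → n < 6 → m ≠ n → (m : ZMod b) ≠ (n : ZMod b) := fun m n hm hn =>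
    small_ne (by omega) (by omega)
  -- the required pattern
  let Pat : Equiv.Perm (ZMod b) → Prop := fun a =>
    (a 1 = 2 ∧ a 3 = 0) ∨ (a 1 = 1 ∧ a 2 = 0)
  have hPat : ∀ a : Equiv.Perm (ZMod b), a ^ p ^ k = 1 → Pat a → Bad p a c := by
    intro a ha hP
    have h20 : (2 : ZMod b) ≠ 0 := by simpa using hne 2 0 (by omega) (by omega) (by omega)
    have h10 : (1 : ZMod b) ≠ 0 := by simpa using hne 1 0 (by omega) (by omega) (by omega)
    have hm : Nat.Coprime 2 p := (Nat.coprime_primes Nat.prime_two hp.out).2 (Ne.symm hp2)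
    rcases hP with ⟨h1, h3⟩ | ⟨h1, h2⟩
    · refine bad_cycle hp2 hb ha hdvd (i := 1) (i' := 3) ?_ (x := 0) hm ?_ ?_
      · rw [h1, h3, map_one, map_zero, map_ofNat, map_ofNat]
        intro e
        exact n4 (by linear_combination e)
      · show a (0 + 1) ≠ 0
        rw [zero_add, h1]
        exact h20
      · rw [sq, Equiv.Perm.mul_apply]
        show a (a (0 + 1) + 1) = 0
        rw [zero_add, h1, show (2 : ZMod b) + 1 = 3 by norm_num, h3]
    · refine bad_cycle hp2 hb ha hdvd (i := 1) (i' := 2) ?_ (x := 0) hm ?_ ?_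
      · rw [h1, h2, map_one, map_zero, map_ofNat]
        intro e
        exact n2 (by linear_combination e)
      · show a (0 + 1) ≠ 0
        rw [zero_add, h1]
        exact h10
      · rw [sq, Equiv.Perm.mul_apply]
        show a (a (0 + 1) + 1) = 0
        rw [zero_add, h1, show (1 : ZMod b) + 1 = 2 by norm_num, h2]
  obtain ⟨ι, a, hι, hιa, hP⟩ : ∃ (ι : ZMod b → X) (a : Equiv.Perm (ZMod b)), Function.Injective ι ∧
      (∀ i, u (ι i) = ι (a i)) ∧ Pat a := by
    by_cases hfix : ∃ z ∈ S, u z = z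
    · obtain ⟨z, hzS, hz⟩ := hfix
      obtain ⟨ι, a, hι, hιa, ht⟩ := exists_set_model u hS hSc ![z, y, u y]
        (by
          have z1 : z ≠ y := fun e => hy (e ▸ hz)
          have z2 : z ≠ u y := fun e => hy (u.injective (e ▸ hz))
          exact List.nodup_ofFn.1 (by simp [z1, z2, Ne.symm hy]))
        (by intro i; fin_cases i <;> simp [hzS, hyS, hS y hyS])
        ![((1 : ℕ) : ZMod b), ((2 : ℕ) : ZMod b), ((0 : ℕ) : ZMod b)]
        (by
          intro i l h
          fin_cases i <;> fin_cases l <;> first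
            | rfl
            | exact absurd h (hne _ _ (by omega) (by omega) (by omega)))
      have t0 := ht 0
      have t1 := ht 1
      have t2 := ht 2
      simp at t0 t1 t2
      refine ⟨ι, a, hι, hιa, Or.inr ⟨hι ?_, hι ?_⟩⟩
      · rw [← hιa, t0, hz]
      · rw [← hιa, t1, t2]
    · push Not at hfix
      obtain ⟨z, hzS, hz⟩ : ∃ z ∈ S, z ∉ ({y, u y, u.symm y} : Finset X) := by
        by_contra hno
        push Not at hno
        have := (Finset.card_le_card hno).trans Finset.card_le_three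
        omega
      simp only [Finset.mem_insert, Finset.mem_singleton, not_or] at hz
      obtain ⟨z0, z1, z2⟩ := hz
      have w0 : u z ≠ y := fun e => z2 (u.eq_symm_apply.2 e)
      have w1 : u z ≠ u y := fun e => z0 (u.injective e)
      have w2 : u z ≠ z := hfix z hzS
      obtain ⟨ι, a, hι, hιa, ht⟩ := exists_set_model u hS hSc ![y, u y, z, u z]
        (by
          exact List.nodup_ofFn.1 (by
            simp [Ne.symm hy, Ne.symm z0, Ne.symm z1, Ne.symm w0, Ne.symm w1, Ne.symm w2]))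
        (by intro i; fin_cases i <;> simp [hzS, hyS, hS y hyS, hS z hzS])
        ![((1 : ℕ) : ZMod b), ((2 : ℕ) : ZMod b), ((3 : ℕ) : ZMod b), ((0 : ℕ) : ZMod b)]
        (by
          intro i l h
          fin_cases i <;> fin_cases l <;> first
            | rfl
            | exact absurd h (hne _ _ (by omega) (by omega) (by omega)))
      have t0 := ht 0
      have t1 := ht 1
      have t2 := ht 2
      have t3 := ht 3
      simp at t0 t1 t2 t3
      refine ⟨ι, a, hι, hιa, Or.inl ⟨hι ?_, hι ?_⟩⟩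
      · rw [← hιa, t0, t1]
      · rw [← hιa, t2, t3]
  have hapow : ∀ (n : ℕ) (i : ZMod b), (u ^ n) (ι i) = ι ((a ^ n) i) := by
    intro n
    induction n with
    | zero => intro i; rfl
    | succ n ih => intro i; rw [pow_succ', pow_succ', Equiv.Perm.mul_apply, Equiv.Perm.mul_apply, ih, hιa]
  have hap : a ^ p ^ k = 1 := Equiv.ext fun i => hι (by rw [← hapow, hu]; rfl)
  refine goal_of_twist hι hκ hιa hκc fun s => ?_
  rcases Int.units_eq_one_or s with rfl | rfl
  · exact ⟨1, map_one _, by simpa using hPat a hap hP⟩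
  · have h45 : ((4 : ℕ) : ZMod b) ≠ ((5 : ℕ) : ZMod b) := hne 4 5 (by omega) (by omega) (by omega)
    set π := Equiv.swap ((4 : ℕ) : ZMod b) ((5 : ℕ) : ZMod b) with hπ
    have hfix : ∀ n : ℕ, n < 4 → π (n : ZMod b) = n := fun n hn =>
      Equiv.swap_apply_of_ne_of_ne (hne n 4 (by omega) (by omega) (by omega))
        (hne n 5 (by omega) (by omega) (by omega))
    have f0 : π 0 = 0 := by simpa using hfix 0 (by omega)
    have f1 : π 1 = 1 := by simpa using hfix 1 (by omega)
    have f2 : π 2 = 2 := by simpa using hfix 2 (by omega)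
    have f3 : π 3 = 3 := by simpa using hfix 3 (by omega)
    have hinv : π⁻¹ = π := by rw [hπ]; exact Equiv.swap_inv _ _
    refine ⟨π, Equiv.Perm.sign_swap h45, hPat _ ?_ ?_⟩
    · rw [conj_pow, hap, mul_one, mul_inv_cancel]
    · rw [hinv]
      rcases hP with ⟨h1, h3⟩ | ⟨h1, h2⟩
      · exact Or.inl ⟨by simp [f1, h1, f2], by simp [f3, h3, f0]⟩
      · exact Or.inr ⟨by simp [f1, h1], by simp [f2, h2, f0]⟩

/-- Two nontrivial `p`-elements of degree at least five, `p` odd. -/
theorem goal {p : ℕ} [hp : Fact p.Prime] (hp2 : p ≠ 2) (hn : 5 ≤ Fintype.card X) {u w : Equiv.Perm X}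
    (hu1 : u ≠ 1) (hw1 : w ≠ 1) {k l : ℕ} (hu : u ^ p ^ k = 1) (hw : w ^ p ^ l = 1) : Goal p u w := by
  haveI : Nonempty X := Fintype.card_pos_iff.1 (by omega)
  obtain ⟨y, -, hy⟩ := Finset.exists_max_image Finset.univ (per u) Finset.univ_nonempty
  obtain ⟨x, -, hx⟩ := Finset.exists_max_image Finset.univ (per w) Finset.univ_nonempty
  have core : ∀ {u w : Equiv.Perm X}, u ≠ 1 → w ≠ 1 → ∀ {k l : ℕ}, u ^ p ^ k = 1 → w ^ p ^ l = 1 →
      ∀ x : X, (∀ z, per u z ≤ per w x) → (∀ z, per w z ≤ per w x) → Goal p u w := by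
    intro u w hu1 hw1 k l hu hw x hxu hxw
    obtain ⟨i, -, hi⟩ := (Nat.dvd_prime_pow hp.out).1
      ((pow_eq_iff w x _).1 (show (w ^ p ^ l) x = x by rw [hw]; rfl))
    have hfix1 : ∀ g : Equiv.Perm X, (∀ z, per g z ≤ 1) → g = 1 := fun g hg => Equiv.ext fun z => by
      have h3 := (pow_eq_iff g z 1).2 (by rw [show per g z = 1 from le_antisymm (hg z) (per_pos g z)])
      rwa [pow_one] at h3
    obtain ⟨j, rfl⟩ : ∃ j, i = j + 1 := ⟨i - 1, by
      rcases Nat.eq_zero_or_pos i with rfl | h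
      · exact absurd (hfix1 w fun z => by simpa [hi] using hxw z) hw1
      · omega⟩
    have hodd : p ≥ 3 := by have := hp.out.two_le; omega
    haveI : NeZero (p ^ (j + 1)) := ⟨(pow_pos hp.out.pos _).ne'⟩
    by_cases h7 : 7 ≤ p ^ (j + 1)
    · exact goal_long hp2 rfl h7 hu1 hu (fun z => hi ▸ hxu z) hi
    · have hj : j = 0 := by
        by_contra hj
        have : p ^ 2 ≤ p ^ (j + 1) := Nat.pow_le_pow_right hp.out.pos (by omega)
        have : 9 ≤ p ^ 2 := by nlinarith
        omega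
      subst hj
      rw [zero_add, pow_one] at h7 hi
      have hcases : p = 3 ∨ p = 5 := by
        have hp4 : p ≠ 4 := fun h => by
          have := hp.out; rw [h] at this; norm_num at this
        have hp6 : p ≠ 6 := fun h => by
          have := hp.out; rw [h] at this; norm_num at this
        omega
      have hall : ∀ (g : Equiv.Perm X) (m : ℕ), g ^ p ^ m = 1 → (∀ z, per g z ≤ p) →
          ∀ z, per g z = 1 ∨ per g z = p := fun g m hg hle z => by
        obtain ⟨e, -, he⟩ := (Nat.dvd_prime_pow hp.out).1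
          ((pow_eq_iff g z _).1 (show (g ^ p ^ m) z = z by rw [hg]; rfl))
        rcases Nat.lt_or_ge e 2 with h | h
        · interval_cases e
          · exact Or.inl (by rw [he, pow_zero])
          · exact Or.inr (by rw [he, pow_one])
        · exfalso
          have := hle z
          rw [he] at this
          have : p ^ 2 ≤ p := le_trans (Nat.pow_le_pow_right hp.out.pos h) this
          nlinarith
      have hU := hall u k hu fun z => hi ▸ hxu z
      have hW := hall w l hw fun z => hi ▸ hxw z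
      rcases hcases with rfl | rfl
      · refine goal_three hn hu1 hw1 (fun z => ?_) fun z => ?_
        · have h := (pow_eq_iff u z 3).2 (by rcases hU z with h | h <;> simp [h])
          simpa [pow_succ] using h
        · have h := (pow_eq_iff w z 3).2 (by rcases hW z with h | h <;> simp [h])
          simpa [pow_succ] using h
      · obtain ⟨z, hz⟩ : ∃ z, per u z = 5 := by
          by_contra hno
          push Not at hno
          exact hu1 (hfix1 u fun z => ((hU z).resolve_right (hno z)).le)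
        exact goal_five hz hi
  rcases le_total (per u y) (per w x) with h | h
  · exact core hu1 hw1 hu hw x (fun z => (hy z (Finset.mem_univ _)).trans h) fun z => hx z (Finset.mem_univ _)
  · exact goal_symm (core hw1 hu1 hw hu y (fun z => (hx z (Finset.mem_univ _)).trans h)
      fun z => hy z (Finset.mem_univ _))

end CfsgLib.AltPair
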