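import Cfsg.Agent.AltPair.Affine

/-!
# Pairs of permutations through a model on an invariant set
-/

set_option autoImplicit false
set_option linter.style.haveILetI false

namespace CfsgLib.AltPair

open scoped commutatorElement

universe u v

/-- The product is not a `p`-element and the generated subgroup is not solvable. -/
def Bad {G : Type u} [Group G] (p : ℕ) (x y : G) : Prop :=
  (¬ ∃ k : ℕ, (x * y) ^ p ^ k = 1) ∧ ¬ Group.IsSolvable (Subgroup.closure ({x, y} : Set G))

/-- An even permutation `σ` makes `u` and `σ⁻¹ w σ` bad. -/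
def Goal {X : Type u} [Fintype X] [DecidableEq X] (p : ℕ) (u w : Equiv.Perm X) : Prop :=
  ∃ σ : Equiv.Perm X, Equiv.Perm.sign σ = 1 ∧ Bad p u (σ⁻¹ * w * σ)

theorem bad_map {G : Type u} [Group G] {H : Type v} [Group H] {p : ℕ} {x y : G} (f : G →* H)
    (h : Bad p (f x) (f y)) : Bad p x y := by
  refine ⟨fun ⟨k, hk⟩ => h.1 ⟨k, by rw [← map_mul, ← map_pow, hk, map_one]⟩, fun hs => h.2 ?_⟩
  haveI := hs
  have : (Subgroup.closure ({x, y} : Set G)).map f = Subgroup.closure ({f x, f y} : Set H) := by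
    rw [MonoidHom.map_closure, Set.image_pair]
  rw [← this]
  exact Group.isSolvable_of_surjective (MonoidHom.subgroupMap_surjective f _)

theorem bad_of_injective {G : Type u} [Group G] {H : Type v} [Group H] {p : ℕ} {x y : G} (f : G →* H)
    (hf : Function.Injective f) (h : Bad p x y) : Bad p (f x) (f y) := by
  refine ⟨fun ⟨k, hk⟩ => h.1 ⟨k, hf (by rw [map_pow, map_mul, hk, map_one])⟩, fun hs => h.2 ?_⟩
  haveI := hs
  have hmap : (Subgroup.closure ({x, y} : Set G)).map f = Subgroup.closure ({f x, f y} : Set H) := by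
    rw [MonoidHom.map_closure, Set.image_pair]
  haveI : Group.IsSolvable ((Subgroup.closure ({x, y} : Set G)).map f) := hmap ▸ hs
  exact Group.isSolvable_of_surjective
    (f := ((Subgroup.closure ({x, y} : Set G)).equivMapOfInjective f hf).symm.toMonoidHom)
    (MulEquiv.surjective _)

theorem goal_symm {X : Type u} [Fintype X] [DecidableEq X] {p : ℕ} {u w : Equiv.Perm X}
    (h : Goal p u w) : Goal p w u := by
  obtain ⟨σ, hσ, hb⟩ := h
  refine ⟨σ⁻¹, by rw [Equiv.Perm.sign_inv, hσ], ?_⟩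
  rw [inv_inv]
  -- conjugate and exchange the two generators
  have h1 : Bad p (σ * u * σ⁻¹) w := by
    have := bad_of_injective (MulAut.conj σ).toMonoidHom (MulAut.conj σ).injective hb
    simpa [MulAut.conj_apply, mul_assoc] using this
  obtain ⟨h2, h3⟩ := h1
  refine ⟨fun ⟨k, hk⟩ => h2 ⟨k, ?_⟩, by rwa [Set.pair_comm]⟩
  have : σ * u * σ⁻¹ * w = w⁻¹ * (w * (σ * u * σ⁻¹)) * w⁻¹⁻¹ := by group
  rw [this, conj_pow, hk, mul_one, mul_inv_cancel]

variable {α : Type v} {X : Type u}

/-- The permutations preserving the image of a model. -/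
def Inter (ι : α → X) : Subgroup (Equiv.Perm X) where
  carrier := {g | ∃ h : Equiv.Perm α, ∀ i, g (ι i) = ι (h i)}
  one_mem' := ⟨1, fun i => rfl⟩
  mul_mem' := fun {g g'} hg hg' => by
    obtain ⟨h, hh⟩ := hg
    obtain ⟨h', hh'⟩ := hg'
    exact ⟨h * h', fun i => by rw [Equiv.Perm.mul_apply, hh', hh, Equiv.Perm.mul_apply]⟩
  inv_mem' := fun {g} hg => by
    obtain ⟨h, hh⟩ := hg
    exact ⟨h⁻¹, fun i => by rw [Equiv.Perm.inv_def, Equiv.symm_apply_eq, hh, Equiv.Perm.inv_def, Equiv.apply_symm_apply]⟩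

noncomputable def restr {ι : α → X} (hι : Function.Injective ι) : Inter ι →* Equiv.Perm α where
  toFun g := g.2.choose
  map_one' := Equiv.ext fun i => hι ((((1 : Inter ι)).2.choose_spec i).symm)
  map_mul' g g' := Equiv.ext fun i => hι (by
    rw [← (g * g').2.choose_spec i, Equiv.Perm.mul_apply, ← g.2.choose_spec, ← g'.2.choose_spec]
    rfl)

theorem restr_eq {ι : α → X} (hι : Function.Injective ι) {g : Equiv.Perm X} (hg : g ∈ Inter ι)
    {h : Equiv.Perm α} (hh : ∀ i, g (ι i) = ι (h i)) : restr hι ⟨g, hg⟩ = h :=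
  Equiv.ext fun i => hι (((hg.choose_spec i).symm).trans (hh i))

theorem bad_of_model {p : ℕ} {u v : Equiv.Perm X} {ι : α → X} (hι : Function.Injective ι)
    {a c : Equiv.Perm α} (hu : ∀ i, u (ι i) = ι (a i)) (hv : ∀ i, v (ι i) = ι (c i))
    (h : Bad p a c) : Bad p u v := by
  have hu' : u ∈ Inter ι := ⟨a, hu⟩
  have hv' : v ∈ Inter ι := ⟨c, hv⟩
  refine bad_of_injective (Inter ι).subtype (Subgroup.subtype_injective _)
    (x := ⟨u, hu'⟩) (y := ⟨v, hv'⟩) (bad_map (restr hι) ?_)
  rwa [restr_eq hι hu' hu, restr_eq hι hv' hv]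

theorem bad_of_model' {p : ℕ} {u w σ : Equiv.Perm X} {ι κ : α → X} (hι : Function.Injective ι)
    {a c : Equiv.Perm α} (hσ : ∀ i, σ (ι i) = κ i) (hu : ∀ i, u (ι i) = ι (a i))
    (hw : ∀ i, w (κ i) = κ (c i)) (h : Bad p a c) : Bad p u (σ⁻¹ * w * σ) := by
  refine bad_of_model hι hu (fun i => ?_) h
  rw [Equiv.Perm.mul_apply, Equiv.Perm.mul_apply, hσ, hw, Equiv.Perm.inv_def, Equiv.symm_apply_eq, hσ]

theorem exists_perm_extend {α : Type v} {X : Type u} [Finite X] {f g : α → X}
    (hf : Function.Injective f) (hg : Function.Injective g) :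
    ∃ σ : Equiv.Perm X, ∀ i, σ (f i) = g i := by
  classical
  let e : {x // x ∈ Set.range f} ≃ {x // x ∈ Set.range g} :=
    (Equiv.ofInjective f hf).symm.trans (Equiv.ofInjective g hg)
  refine ⟨e.extendSubtype, fun i => ?_⟩
  rw [Equiv.extendSubtype_apply_of_mem e (f i) ⟨i, rfl⟩]
  show ((Equiv.ofInjective g hg) ((Equiv.ofInjective f hf).symm ⟨f i, i, rfl⟩) : X) = g i
  rw [Equiv.ofInjective_symm_apply, Equiv.ofInjective_apply]

/-- A model that may be twisted by permutations of both parities. -/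
theorem goal_of_twist [Fintype X] [DecidableEq X] [Fintype α] [DecidableEq α] {p : ℕ}
    {u w : Equiv.Perm X} {ι κ : α → X}
    (hι : Function.Injective ι) (hκ : Function.Injective κ)
    {a c : Equiv.Perm α} (hu : ∀ i, u (ι i) = ι (a i)) (hw : ∀ i, w (κ i) = κ (c i))
    (h : ∀ s : ℤˣ, ∃ π : Equiv.Perm α, Equiv.Perm.sign π = s ∧ Bad p (π * a * π⁻¹) c) : Goal p u w := by
  obtain ⟨σ, hσ⟩ := exists_perm_extend hι hκ
  obtain ⟨π, hπ, hb⟩ := h (Equiv.Perm.sign σ)
  let E : Equiv.Perm X := π.extendDomain (Equiv.ofInjective κ hκ)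
  have hE : ∀ i, E (κ i) = κ (π i) := fun i =>
    Equiv.Perm.extendDomain_apply_image π (Equiv.ofInjective κ hκ) i
  refine ⟨E * σ, ?_, bad_of_model' (ι := fun i => ι (π⁻¹ i)) (κ := κ) ?_ (fun i => ?_) (fun i => ?_) hw hb⟩
  · rw [map_mul, Equiv.Perm.sign_extendDomain, hπ, Int.units_mul_self]
  · exact hι.comp (π⁻¹).injective
  · rw [Equiv.Perm.mul_apply, hσ, hE, Equiv.Perm.inv_def, Equiv.apply_symm_apply]
  · rw [hu, Equiv.Perm.mul_apply, Equiv.Perm.mul_apply]
    simp

/-- A perfect pair generates a group that is not solvable. -/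
theorem not_solvable_of_perfect {G : Type u} [Group G] {a c : G} (ha : a ≠ 1)
    {x y x' y' : G} (hx : x ∈ Subgroup.closure ({a, c} : Set G)) (hy : y ∈ Subgroup.closure ({a, c} : Set G))
    (hx' : x' ∈ Subgroup.closure ({a, c} : Set G)) (hy' : y' ∈ Subgroup.closure ({a, c} : Set G))
    (h1 : x * y = a * (y * x)) (h2 : x' * y' = c * (y' * x')) :
    ¬ Group.IsSolvable (Subgroup.closure ({a, c} : Set G)) := by
  intro hs
  set H := Subgroup.closure ({a, c} : Set G)
  have hle : H ≤ ⁅H, H⁆ := by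
    rw [Subgroup.closure_le]
    intro g hg
    rcases hg with rfl | rfl
    · have := Subgroup.commutator_mem_commutator hx hy
      rwa [commutatorElement_def, h1, show g * (y * x) * x⁻¹ * y⁻¹ = g by group] at this
    · have := Subgroup.commutator_mem_commutator hx' hy'
      rwa [commutatorElement_def, h2, show g * (y' * x') * x'⁻¹ * y'⁻¹ = g by group] at this
  have htop : commutator H = ⊤ := by
    refine Subgroup.map_injective H.subtype_injective ?_
    rw [Subgroup.map_subtype_commutator, ← MonoidHom.range_eq_map, Subgroup.range_subtype]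
    exact le_antisymm (Subgroup.commutator_le_self H) hle
  obtain ⟨n, hn⟩ := hs.1
  have hall : ∀ n, derivedSeries H n = ⊤ := fun n => by
    induction n with
    | zero => rfl
    | succ n ih => rw [derivedSeries_succ, ih, ← commutator_def, htop]
  rw [hall] at hn
  refine ha ?_
  have h3 : (⟨a, Subgroup.subset_closure (Set.mem_insert a {c})⟩ : H) ∈ (⊥ : Subgroup H) := hn ▸ Subgroup.mem_top _
  exact congrArg Subtype.val (Subgroup.mem_bot.1 h3)

end CfsgLib.AltPair
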